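import Cfsg.Agent.Omega.SQ1.Match
import Mathlib.GroupTheory.Nilpotent
import Mathlib.GroupTheory.PGroup
import Mathlib.GroupTheory.Sylow
import Mathlib.Tactic

-- merged: Cfsg.Agent.Omega.SQ1.Block
section

/-!
# SQ1: the structure of one block after the matching

For a block `L` over `B` (structure `PushUp.Dat`) which has a noncommuting conjugate:
`V = Z Z^l` for moving `l`, `[v, b] ∈ C(L)` only in the trivial cases.
(bb OMEGA #12483.)
-/

set_option autoImplicit false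

namespace Cfsg.Agent.Omega.SQ1.Block

open Cfsg.Agent.MinSimple.PushUp Cfsg.Agent.Omega.PushUp Cfsg.Agent.Omega.SQ1.Match

variable {G : Type*} [Group G]

/-- If `U ≤ B` covers as many cosets of `Q` as `B`, then `B = U Q`. -/
theorem exists_mul_of_relIndex [Finite G] {Q B U : Subgroup G} (hUB : U ≤ B)
    (hle : Q.relIndex B ≤ Q.relIndex U) {b : G} (hb : b ∈ B) :
    ∃ u ∈ U, ∃ q ∈ Q, b = u * q := by
  classical
  let f := Subgroup.quotientSubgroupOfEmbeddingOfLE Q hUB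
  have hbij : Function.Bijective f := Function.Injective.bijective_of_nat_card_le f.injective hle
  obtain ⟨x, hx⟩ := hbij.2 (QuotientGroup.mk (⟨b, hb⟩ : B))
  obtain ⟨u, rfl⟩ := QuotientGroup.mk_surjective x
  have h1 : (QuotientGroup.mk (⟨u.1, hUB u.2⟩ : B) : B ⧸ Q.subgroupOf B) =
      QuotientGroup.mk (⟨b, hb⟩ : B) := hx
  rw [QuotientGroup.eq] at h1
  refine ⟨u, u.2, (u : G)⁻¹ * b, ?_, by simp⟩
  simpa [Subgroup.mem_subgroupOf] using h1

/-- comparison of indices by an elementwise injection -/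
theorem relIndex_le_of_map [Finite G] {Q B F Z : Subgroup G} (f : G → G)
    (hf : ∀ b ∈ B, f b ∈ Z)
    (hinj : ∀ b ∈ B, ∀ c ∈ B, (f b)⁻¹ * f c ∈ F → b⁻¹ * c ∈ Q) :
    Q.relIndex B ≤ F.relIndex Z := by
  classical
  have : Function.Injective (fun x : B ⧸ Q.subgroupOf B =>
      (QuotientGroup.mk (⟨f (Quotient.out x : B), hf _ (Quotient.out x : B).2⟩ : Z) :
        Z ⧸ F.subgroupOf Z)) := by
    intro x y hxy
    simp only at hxy
    rw [QuotientGroup.eq, Subgroup.mem_subgroupOf] at hxy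
    have h1 := hinj _ (Quotient.out x : B).2 _ (Quotient.out y : B).2 (by simpa using hxy)
    have h2 : (QuotientGroup.mk (Quotient.out x : B) : B ⧸ Q.subgroupOf B) =
        QuotientGroup.mk (Quotient.out y : B) := by
      rw [QuotientGroup.eq, Subgroup.mem_subgroupOf]
      simpa using h1
    rwa [QuotientGroup.out_eq', QuotientGroup.out_eq'] at h2
  exact Nat.card_le_card_of_injective _ this

theorem Dm_relIndex (g : G) (H K : Subgroup G) : (Dm H g).relIndex (Dm K g) = H.relIndex K :=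
  Subgroup.relIndex_map_map_of_injective _ _ (MulAut.conj g).injective

theorem Dm_le_iff {g : G} {H K : Subgroup G} : Dm H g ≤ K ↔ ∀ x ∈ H, cj g x ∈ K := by
  constructor
  · intro h x hx; exact h (cj_mem_Dm hx)
  · intro h x hx
    rw [mem_Dm] at hx
    have := h _ hx
    rwa [cj_cj_inv] at this

theorem Dm_eq_of [Finite G] {g : G} {H : Subgroup G} (h : ∀ x ∈ H, cj g x ∈ H) : Dm H g = H := by
  apply Subgroup.eq_of_le_of_card_ge (Dm_le_iff.2 h)
  rw [Dm, Subgroup.card_map_of_injective (MulAut.conj g).injective]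

variable {A T L B Q V Z D : Subgroup G}

section dat

variable (h : Dat A T L B Q V Z D)

include h

/-- `|V : Z| = |B : Q|` -/
theorem idx_eq [Finite G] : Z.relIndex V = Q.relIndex B := by
  apply le_antisymm _ h.card
  obtain ⟨t, ht, v, hv, u, hu, hne⟩ := h.exists_noncommuting
  have hc : ∀ m < 0, ∀ w ∈ W A L m, Com V w := fun m hm => absurd hm (Nat.not_lt_zero m)
  exact h.crit_card hc (show t ∈ W A L 0 from ht) (fun hcom => hne (hcom v hv u hu))

/-- `Z ∩ Z^m ≤ C(L)` for moving `m` -/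
theorem cent_inter {m : G} (hm : m ∈ L) (hmv : Mv D Z m) {z : G} (hz : z ∈ Z)
    (hz' : cj m⁻¹ z ∈ Z) {y : G} (hy : y ∈ L) : y * z = z * y := by
  have hle : L ≤ Subgroup.centralizer {z} := by
    apply h.gen m hm hmv
    · intro b hb
      rw [Subgroup.mem_centralizer_iff]
      intro x hx
      rw [Set.mem_singleton_iff] at hx
      rw [hx]
      exact (h.BcZ b hb z hz).symm
    · intro b hb
      rw [Subgroup.mem_centralizer_iff]
      intro x hx
      rw [Set.mem_singleton_iff] at hx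
      rw [hx]
      have h1 := (cj_comm (g := m)).2 (h.BcZ b hb _ hz')
      rw [cj_cj_inv] at h1
      exact h1.symm
  exact (Subgroup.mem_centralizer_iff.1 (hle hy) z rfl).symm

/-- an element of `V` in a conjugate of `Z` -/
theorem inj_aux {l : G} (hl : l ∈ L) (hmv : Mv D Z l) {z : G} (hz : z ∈ Z) {b : G} (hb : b ∈ B)
    (hf : ∀ y ∈ L, y * (cj l z * b * (cj l z)⁻¹ * b⁻¹) = (cj l z * b * (cj l z)⁻¹ * b⁻¹) * y) :
    b ∈ Q ∨ cj l z ∈ Z := by
  by_cases hbQ : b ∈ Q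
  · exact Or.inl hbQ
  right
  have hm := h.ti l hl hmv b hb hbQ
  have hmL : l⁻¹ * b * l ∈ L := L.mul_mem (L.mul_mem (L.inv_mem hl) (h.BL hb)) hl
  set f := cj l z * b * (cj l z)⁻¹ * b⁻¹ with hfd
  have hzV : cj l z ∈ V := h.cjV hl (h.ZV hz)
  have hfD : f ∈ D := h.comm _ hzV b hb
  have hfZ : f ∈ Z := h.DZ hfD
  -- `cj b (cj l z) = f⁻¹ * cj l z`
  have e1 : cj b (cj l z) = f⁻¹ * cj l z := by rw [hfd]; simp [cj, mul_assoc]
  have e2 : cj l⁻¹ f = f := cj_eq_self.2 (hf _ (L.inv_mem hl))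
  set w := cj b (cj l z) with hw
  have hwl : cj l⁻¹ w ∈ Z := by
    rw [e1, cj_prod, cj_inv, e2, cj_inv_cj]
    exact Z.mul_mem (Z.inv_mem hfZ) hz
  have e3 : cj l⁻¹ w = cj (l⁻¹ * b * l) z := by rw [hw]; simp [cj, mul_assoc]
  have hcen : ∀ y ∈ L, y * cj l⁻¹ w = cj l⁻¹ w * y := by
    intro y hy
    apply cent_inter h hmL hm hwl _ hy
    rw [e3, cj_inv_cj]; exact hz
  have e4 : w = cj l⁻¹ w := by
    have h1 := cj_eq_self.2 (hcen l hl)
    rw [cj_cj_inv] at h1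
    exact h1
  have hwZ : w ∈ Z := by rw [e4]; exact hwl
  have h2 : cj l z = f * w := by rw [e1]; simp
  rw [h2]; exact Z.mul_mem hfZ hwZ

/-- `V = Z Z^l` for moving `l` -/
theorem VZZ [Finite G] {l : G} (hl : l ∈ L) (hmv : Mv D Z l) {v : G} (hv : v ∈ V) :
    ∃ z ∈ Z, ∃ z' ∈ Z, v = z * cj l z' := by
  have hVl : Dm V l = V := Dm_eq_of fun x hx => h.cjV hl hx
  obtain ⟨d, hd, hdZ⟩ := hmv
  have hmv : Mv D Z l := ⟨d, hd, hdZ⟩
  have hdZ' := h.DZ hd
  have hx : cj l d ∈ V := h.cjV hl (h.ZV hdZ')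
  have h1 : Q.relIndex B ≤ (Dm Z l).relIndex Z := by
    apply relIndex_le_of_map (fun b => cj l d * b * (cj l d)⁻¹ * b⁻¹)
    · intro b hb; exact h.DZ (h.comm _ hx b hb)
    · intro b hb c hc hbc
      have hcB : b⁻¹ * c ∈ B := B.mul_mem (B.inv_mem hb) hc
      -- the commutator is a homomorphism in `b`
      have hcb := h.comm _ hx b hb
      have hcc := h.comm _ hx c hc
      have hcbc := h.comm _ hx _ hcB
      have e : cj l d * (b⁻¹ * c) * (cj l d)⁻¹ * (b⁻¹ * c)⁻¹ =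
          (cj l d * b * (cj l d)⁻¹ * b⁻¹)⁻¹ * (cj l d * c * (cj l d)⁻¹ * c⁻¹) := by
        set x := cj l d
        have r1 := h.BcZ b hb _ (h.DZ hcb)
        have r2 : b⁻¹ * (x * b * x⁻¹ * b⁻¹)⁻¹ * b = (x * b * x⁻¹ * b⁻¹)⁻¹ := by
          have : Commute b (x * b * x⁻¹ * b⁻¹)⁻¹ := Commute.inv_right r1
          rw [mul_assoc, ← this.eq, ← mul_assoc, inv_mul_cancel, one_mul]
        have r3 := h.BcZ b⁻¹ (B.inv_mem hb) _ (h.DZ hcc)
        calc x * (b⁻¹ * c) * x⁻¹ * (b⁻¹ * c)⁻¹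
            = (b⁻¹ * (x * b * x⁻¹ * b⁻¹)⁻¹ * b) * (b⁻¹ * (x * c * x⁻¹ * c⁻¹)) * b := by
              simp [mul_assoc]
          _ = (x * b * x⁻¹ * b⁻¹)⁻¹ * ((x * c * x⁻¹ * c⁻¹) * b⁻¹) * b := by rw [r2, r3]
          _ = _ := by simp [mul_assoc]
      have hF : ∀ y ∈ L, y * (cj l d * (b⁻¹ * c) * (cj l d)⁻¹ * (b⁻¹ * c)⁻¹) =
          (cj l d * (b⁻¹ * c) * (cj l d)⁻¹ * (b⁻¹ * c)⁻¹) * y := by
        intro y hy
        apply cent_inter h hl hmv (h.DZ hcbc) _ hy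
        rw [e]
        exact mem_Dm.1 hbc
      rcases inj_aux h hl hmv hdZ' hcB hF with h2 | h2
      · exact h2
      · exact absurd h2 hdZ
  have h2 : (Dm Z l).relIndex V = Z.relIndex V := by
    conv_lhs => rw [← hVl]
    exact Dm_relIndex l Z V
  obtain ⟨z, hz, z', hz', he⟩ := exists_mul_of_relIndex (Q := Dm Z l) (B := V) (U := Z) h.ZV
    (by rw [h2, idx_eq h]; exact h1) hv
  exact ⟨z, hz, cj l⁻¹ z', mem_Dm.1 hz', by rw [cj_cj_inv]; exact he⟩

/-- `|B : Q| ≤ |Z : Z ∩ Z^l|` -/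
theorem idx_ZZ [Finite G] {l : G} (hl : l ∈ L) (hmv : Mv D Z l) :
    Q.relIndex B ≤ (Dm Z l).relIndex Z := by
  classical
  have hVl : Dm V l = V := Dm_eq_of fun x hx => h.cjV hl hx
  have h2 : (Dm Z l).relIndex V = Z.relIndex V := by
    conv_lhs => rw [← hVl]
    exact Dm_relIndex l Z V
  rw [← idx_eq h, ← h2]
  apply relIndex_le_of_map (fun v => if hv : v ∈ V then Classical.choose (VZZ h hl hmv hv) else 1)
  · intro b hb
    rw [dif_pos hb]
    exact (Classical.choose_spec (VZZ h hl hmv hb)).1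
  · intro b hb c hc hbc
    rw [dif_pos hb, dif_pos hc] at hbc
    obtain ⟨hz, z', hz', he⟩ := Classical.choose_spec (VZZ h hl hmv hb)
    obtain ⟨hy, y', hy', he'⟩ := Classical.choose_spec (VZZ h hl hmv hc)
    set z := Classical.choose (VZZ h hl hmv hb)
    set y := Classical.choose (VZZ h hl hmv hc)
    rw [he, he']
    have e : (z * cj l z')⁻¹ * (y * cj l y') = (cj l z')⁻¹ * (z⁻¹ * y) * cj l y' := by
      simp [mul_assoc]
    rw [e]
    exact (Dm Z l).mul_mem ((Dm Z l).mul_mem ((Dm Z l).inv_mem (cj_mem_Dm hz')) hbc)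
      (cj_mem_Dm hy')

/-- `[v, b] ∈ C(L)` only if `v ∈ Z` or `b ∈ Q` -/
theorem star [Finite G] {v : G} (hv : v ∈ V) (hvZ : v ∉ Z) {b : G} (hb : b ∈ B)
    (hf : ∀ y ∈ L, y * (v * b * v⁻¹ * b⁻¹) = (v * b * v⁻¹ * b⁻¹) * y) : b ∈ Q := by
  obtain ⟨l, hl, hmv⟩ := h.moves
  obtain ⟨z, hz, z', hz', rfl⟩ := VZZ h hl hmv hv
  have hx : cj l z' ∈ V := h.cjV hl (h.ZV hz')
  have hcb := h.comm _ hx b hb
  have e : (z * cj l z') * b * (z * cj l z')⁻¹ * b⁻¹ = cj l z' * b * (cj l z')⁻¹ * b⁻¹ := by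
    set x := cj l z'
    have r1 : b * z⁻¹ = z⁻¹ * b := h.BcZ b hb _ (Z.inv_mem hz)
    have r2 : z * (x * b * x⁻¹ * b⁻¹) = (x * b * x⁻¹ * b⁻¹) * z :=
      h.BcZ z (h.VB (h.ZV hz)) _ (h.DZ hcb)
    calc (z * x) * b * (z * x)⁻¹ * b⁻¹ = z * x * b * x⁻¹ * (z⁻¹ * b⁻¹) := by simp [mul_assoc]
      _ = z * x * b * x⁻¹ * (b⁻¹ * z⁻¹) := by
        have : Commute b⁻¹ z⁻¹ := Commute.inv_left r1
        rw [this.eq]
      _ = (z * (x * b * x⁻¹ * b⁻¹)) * z⁻¹ := by simp [mul_assoc]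
      _ = _ := by rw [r2]; simp [mul_assoc]
  rw [e] at hf
  rcases inj_aux h hl hmv hz' hb hf with h1 | h1
  · exact h1
  · exact absurd (Z.mul_mem hz h1) hvZ

end dat

end Cfsg.Agent.Omega.SQ1.Block

end

-- merged: Cfsg.Agent.Omega.SQ1.BlockO
section

/-!
# The subgroup generated by the elements of odd order of a subgroup
-/

set_option autoImplicit false

namespace Cfsg.Agent.Omega.SQ1.BlockO

open Subgroup

variable {G : Type*} [Group G]

/-- the subgroup generated by the elements of odd order of `L` -/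
def O2 (L : Subgroup G) : Subgroup G := closure {x | x ∈ L ∧ Odd (orderOf x)}

theorem O2_le (L : Subgroup G) : O2 L ≤ L := by
  rw [O2, closure_le]
  exact fun x hx => hx.1

theorem mem_O2 {L : Subgroup G} {x : G} (hx : x ∈ L) (ho : Odd (orderOf x)) : x ∈ O2 L :=
  subset_closure ⟨hx, ho⟩

theorem O2_norm {L : Subgroup G} {l x : G} (hl : l ∈ L) (hx : x ∈ O2 L) : l * x * l⁻¹ ∈ O2 L := by
  have hle : O2 L ≤ (O2 L).comap (MulAut.conj l).toMonoidHom := by
    conv_lhs => rw [O2]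
    rw [closure_le]
    rintro y ⟨hy, ho⟩
    simp only [coe_comap, Set.mem_preimage, SetLike.mem_coe]
    have e : (MulAut.conj l).toMonoidHom y = l * y * l⁻¹ := by simp
    rw [e]
    refine mem_O2 (mul_mem (mul_mem hl hy) (inv_mem hl)) ?_
    have : orderOf (l * y * l⁻¹) = orderOf y := by
      have h1 := orderOf_injective (MulAut.conj l).toMonoidHom (MulAut.conj l).injective y
      rwa [e] at h1
    rw [this]; exact ho
  have := hle hx
  simpa using this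

/-- a suitable 2-power of each element of `L` lies in `O2 L` -/
theorem pow_mem_O2 [Finite G] {L : Subgroup G} {y : G} (hy : y ∈ L) : ∃ k, y ^ 2 ^ k ∈ O2 L := by
  obtain ⟨k, m, hm, he⟩ := Nat.exists_eq_two_pow_mul_odd (n := orderOf y) (orderOf_pos y).ne'
  refine ⟨k, mem_O2 (pow_mem hy _) ?_⟩
  have h1 : orderOf (y ^ 2 ^ k) = m := by
    rw [orderOf_pow_of_dvd (by positivity) (by rw [he]; exact dvd_mul_right _ _), he]
    exact Nat.mul_div_cancel_left _ (by positivity)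
  rw [h1]; exact hm

/-- In a finite group `L` with a normal subgroup `X` of 2-power index: a subgroup `B` which
generates `L` together with a conjugate supplements `X`. -/
theorem le_sup_of_gen [Finite G] {L X B : Subgroup G} (hXL : X ≤ L)
    (hXn : ∀ l ∈ L, ∀ x ∈ X, l * x * l⁻¹ ∈ X) (hq : ∀ y ∈ L, ∃ k, y ^ 2 ^ k ∈ X) (hBL : B ≤ L)
    {l : G} (hl : l ∈ L)
    (hgen : ∀ K : Subgroup G, B ≤ K → (∀ b ∈ B, l * b * l⁻¹ ∈ K) → L ≤ K) : L ≤ X ⊔ B := by
  classical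
  by_contra hcon
  -- a maximal proper subgroup over `X B`
  obtain ⟨M, ⟨hXM, hML, hLM⟩, hmax⟩ := Set.exists_max_image
    {M : Subgroup G | X ⊔ B ≤ M ∧ M ≤ L ∧ ¬ L ≤ M} (fun M => Nat.card M) (Set.toFinite _)
    ⟨X ⊔ B, le_rfl, sup_le hXL hBL, hcon⟩
  -- the quotient
  have hn : (X.subgroupOf L).Normal := by
    constructor
    intro n hn g
    rw [mem_subgroupOf] at hn ⊢
    exact hXn g g.2 n hn
  have hp : IsPGroup 2 (L ⧸ X.subgroupOf L) := by
    intro g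
    obtain ⟨y, rfl⟩ := QuotientGroup.mk_surjective g
    obtain ⟨k, hk⟩ := hq y y.2
    refine ⟨k, ?_⟩
    rw [← QuotientGroup.mk_pow, QuotientGroup.eq_one_iff, mem_subgroupOf]
    exact hk
  have : Group.IsNilpotent (L ⧸ X.subgroupOf L) := hp.isNilpotent
  have hnc := Group.normalizerCondition_of_isNilpotent (G := L ⧸ X.subgroupOf L)
  set π := QuotientGroup.mk' (X.subgroupOf L) with hπ
  have hcomap : ((M.subgroupOf L).map π).comap π = M.subgroupOf L := by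
    rw [comap_map_eq, QuotientGroup.ker_mk', sup_eq_left]
    intro x hx
    rw [mem_subgroupOf] at hx ⊢
    exact hXM (le_sup_left (a := X) hx)
  have hlt : (M.subgroupOf L).map π < ⊤ := by
    rw [lt_top_iff_ne_top]
    intro htop
    rw [htop, comap_top] at hcomap
    apply hLM
    intro y hy
    have : (⟨y, hy⟩ : L) ∈ M.subgroupOf L := by rw [← hcomap]; trivial
    exact mem_subgroupOf.1 this
  have hlt2 := hnc _ hlt
  obtain ⟨g, hg1, hg2⟩ := SetLike.exists_of_lt hlt2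
  obtain ⟨y, rfl⟩ := QuotientGroup.mk_surjective g
  have hyM : (y : G) ∉ M := by
    intro hyM
    apply hg2
    exact ⟨y, mem_subgroupOf.2 hyM, rfl⟩
  have hmemM : ∀ z : L, π z ∈ (M.subgroupOf L).map π ↔ (z : G) ∈ M := by
    intro z
    rw [← mem_comap, hcomap, mem_subgroupOf]
  have hyN : (y : G) ∈ normalizer (M : Set G) := by
    rw [mem_normalizer_iff] at hg1 ⊢
    intro z
    constructor
    · intro hz
      have h1 := (hg1 (π ⟨z, hML hz⟩)).1 ((hmemM _).2 hz)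
      exact (hmemM (y * ⟨z, hML hz⟩ * y⁻¹)).1 h1
    · intro hz
      have hzL : z ∈ L := by
        have := mul_mem (mul_mem (inv_mem y.2) (hML hz)) y.2
        simpa [mul_assoc] using this
      have h1 := (hg1 (π ⟨z, hzL⟩)).2 ((hmemM (y * ⟨z, hzL⟩ * y⁻¹)).2 hz)
      exact (hmemM ⟨z, hzL⟩).1 h1
  -- the normaliser of `M` in `L` is `L`
  have hLN : L ≤ normalizer (M : Set G) := by
    by_contra hLN
    have h1 := hmax (L ⊓ normalizer (M : Set G))
      ⟨hXM.trans (le_inf hML le_normalizer), inf_le_left, fun h => hLN (h.trans inf_le_right)⟩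
    have h2 : M ≤ L ⊓ normalizer (M : Set G) := le_inf hML le_normalizer
    have h3 := Subgroup.eq_of_le_of_card_ge h2 h1
    apply hyM
    rw [h3]
    exact ⟨y.2, hyN⟩
  apply hLM
  apply hgen M (le_sup_right.trans hXM)
  intro b hb
  exact (mem_normalizer_iff.1 (hLN hl) b).1 (hXM (le_sup_right (a := X) hb))

/-- an element of odd order which centralises the 2-element `[x, r]` centralises `r` -/
theorem comm_of_odd {x r c : G} (hn : Odd (orderOf x)) (hc : x * r * x⁻¹ = c * r)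
    (hcx : x * c = c * x) {m : ℕ} (hm : c ^ 2 ^ m = 1) : x * r = r * x := by
  have hcx' : ∀ k : ℕ, x * c ^ k = c ^ k * x := fun k =>
    ((show Commute x c from hcx).pow_right k).eq
  have key : ∀ k : ℕ, x ^ k * r * (x ^ k)⁻¹ = c ^ k * r := by
    intro k
    induction k with
    | zero => simp
    | succ k ih =>
      have : x ^ (k + 1) * r * (x ^ (k + 1))⁻¹ = x * (x ^ k * r * (x ^ k)⁻¹) * x⁻¹ := by
        rw [pow_succ']; group
      rw [this, ih]
      calc x * (c ^ k * r) * x⁻¹ = (x * c ^ k) * r * x⁻¹ := by group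
        _ = c ^ k * (x * r * x⁻¹) := by rw [hcx' k]; group
        _ = c ^ (k + 1) * r := by rw [hc, pow_succ]; group
  have h2 : c ^ orderOf x = 1 := by
    have := key (orderOf x)
    rw [pow_orderOf_eq_one] at this
    simpa using this.symm
  have h3 : orderOf c ∣ orderOf x := orderOf_dvd_of_pow_eq_one h2
  have h4 : orderOf c ∣ 2 ^ m := orderOf_dvd_of_pow_eq_one hm
  have h5 : Nat.Coprime (2 ^ m) (orderOf x) := Nat.Coprime.pow_left _ (Nat.coprime_two_left.2 hn)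
  have h6 : orderOf c = 1 := Nat.eq_one_of_dvd_coprimes h5 h4 h3
  have h7 : c = 1 := orderOf_eq_one_iff.1 h6
  rw [h7, one_mul, mul_inv_eq_iff_eq_mul] at hc
  exact hc

end Cfsg.Agent.Omega.SQ1.BlockO

end

-- merged: Cfsg.Agent.Omega.SQ1.Loc
section

/-!
# SQ1: local structure of a block (fields `loc`, `kick` of the killing lemma)

For a matched pair `(i, j)`: `Q_i = V_i C` where `C` is centralised by `O²(L_i)`; a 2-group which
normalises `P` and is normalised by `O²(L_i)` and `B` is centralised by `O²(L_i)` or contains `D_i`.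
(bb OMEGA #12483.)
-/

set_option autoImplicit false

namespace Cfsg.Agent.Omega.SQ1.Block

open Cfsg.Agent.MinSimple.PushUp Cfsg.Agent.Omega.PushUp Cfsg.Agent.Omega.SQ1.Match
open Cfsg.Agent.Omega.SQ1.BlockO Subgroup
open scoped Pointwise

variable {G : Type*} [Group G] {ι : Type*}
variable {A T B Z P : Subgroup G} {s : G} {L Q V D : ι → Subgroup G}

theorem cj_pow (g x : G) (n : ℕ) : cj g (x ^ n) = cj g x ^ n := by
  simp [cj]

theorem mem_norm_of [Finite G] {H : Subgroup G} {x : G} (h : ∀ y ∈ H, x * y * x⁻¹ ∈ H) :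
    x ∈ normalizer (H : Set G) := by
  have e : Dm H x = H := Dm_eq_of fun y hy => h y hy
  rw [mem_normalizer_iff]
  intro y
  refine ⟨h y, fun hy => ?_⟩
  have h1 : cj x y ∈ Dm H x := by rw [e]; exact hy
  have h2 := mem_Dm.1 h1
  rwa [cj_inv_cj] at h2

theorem norm_cj {H : Subgroup G} {x y : G} (h : x ∈ normalizer (H : Set G)) (hy : y ∈ H) :
    cj x y ∈ H := (mem_normalizer_iff.1 h y).1 hy

variable (h : MIn A T B Z P s L Q V D)

section basic

include h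

/-- `V' = (V_j)^s` is normalised by `B` -/
theorem B_norm_V' (j : ι) {b u : G} (hb : b ∈ B) (hu : u ∈ Dm (V j) s) :
    cj b u ∈ Dm (V j) s := by
  rw [mem_Dm] at hu ⊢
  have e : cj s⁻¹ (cj b u) = cj (cj s⁻¹ b) (cj s⁻¹ u) := by simp [cj, mul_assoc]
  rw [e]
  obtain ⟨d, hd, he⟩ := (h.dat j).commB hu (h.cjsB' j hb)
  rw [he]
  exact (V j).mul_mem ((h.dat j).DV hd) hu

theorem V'_le_B (j : ι) : Dm (V j) s ≤ B := by
  rw [Dm_le_iff]
  intro v hv
  exact h.cjsB j ((h.dat j).VB hv)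

theorem Z_le_V' (j : ι) : Z ≤ Dm (V j) s := by
  intro z hz
  rw [mem_Dm]
  exact (h.dat j).ZV ((h.dat j).cjZ (A.inv_mem h.sA) hz)

theorem mem_Q' (j : ι) {x : G} (hx : x ∈ B) :
    x ∈ Dm (Q j) s ↔ ∀ u ∈ Dm (V j) s, x * u = u * x := by
  rw [mem_Dm]
  constructor
  · intro hq u hu
    have h1 := (h.dat j).VcQ _ hq _ (mem_Dm.1 hu)
    have h2 := (cj_comm (g := s)).2 h1
    rwa [cj_cj_inv, cj_cj_inv] at h2
  · intro hc
    apply (h.dat j).QcV _ (h.cjsB' j hx)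
    intro v hv
    have h1 := hc _ (cj_mem_Dm hv)
    have h2 := (cj_comm (g := s⁻¹)).2 h1
    rwa [cj_inv_cj] at h2

theorem Q'_le_B (j : ι) : Dm (Q j) s ≤ B := by
  rw [Dm_le_iff]
  intro v hv
  exact h.cjsB j ((h.dat j).QB hv)

/-- `Q' = C_B(V')` is normalised by `B` -/
theorem B_norm_Q' (j : ι) {b x : G} (hb : b ∈ B) (hx : x ∈ Dm (Q j) s) : cj b x ∈ Dm (Q j) s := by
  have hxB := Q'_le_B h j hx
  have hbx : cj b x ∈ B := B.mul_mem (B.mul_mem hb hxB) (B.inv_mem hb)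
  rw [mem_Q' h j hbx]
  intro u hu
  have h1 := (mem_Q' h j hxB).1 hx _ (B_norm_V' h j (B.inv_mem hb) hu)
  have h2 := (cj_comm (g := b)).2 h1
  rwa [cj_cj_inv] at h2

theorem idx_ij [Finite G] (i j : ι) : Z.relIndex (V i) = Z.relIndex (V j) := by
  obtain ⟨t, ht, hD⟩ := h.trans i j
  have h12 := h.perm_eq ht hD
  have h1 := h12.1
  have h2 := h12.2.1
  have e1 : Dm (V i) t = V j := by
    apply le_antisymm (Dm_le_iff.2 h1)
    intro v hv
    rw [mem_Dm]
    simpa [cj] using h2 v hv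
  have e2 : Dm Z t = Z := Dm_eq_of fun z hz => (h.dat i).cjZ (h.TA i ht) hz
  have := Dm_relIndex t Z (V i)
  rw [e1, e2] at this
  exact this.symm

end basic

section pair

variable {i j : ι} (hp : Par s V i j)

include h hp

theorem V'_cap {u : G} (hu : u ∈ Dm (V j) s) (hc : ∀ v ∈ V i, u * v = v * u) : u ∈ Z := by
  have h1 : cj s⁻¹ u ∈ Z := by
    apply h.inv.par_Z (MIn.par_symm hp) (mem_Dm.1 hu)
    intro v hv
    exact (cj_comm (g := s⁻¹)).2 (hc v hv)
  have h2 := (h.dat i).cjZ h.sA h1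
  rwa [cj_cj_inv] at h2

theorem V_cap {v : G} (hv : v ∈ V i) (hc : ∀ u ∈ Dm (V j) s, v * u = u * v) : v ∈ Z :=
  h.par_Z hp hv fun u hu => hc _ (cj_mem_Dm hu)

theorem B_eq [Finite G] {b : G} (hb : b ∈ B) : ∃ u ∈ Dm (V j) s, ∃ q ∈ Q i, b = u * q := by
  obtain ⟨v, hv, q, hq, he⟩ := h.par_B hp hb
  exact ⟨_, cj_mem_Dm hv, q, hq, he⟩

/-- `C_Q(V', V'^l)` -/
def Cq (s l : G) (Q : ι → Subgroup G) (i j : ι) : Subgroup G :=
  Q i ⊓ (Dm (Q j) s ⊓ Dm (Dm (Q j) s) l)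

omit h hp in
theorem mem_Cq {l x : G} : x ∈ Cq s l Q i j ↔
    x ∈ Q i ∧ x ∈ Dm (Q j) s ∧ cj l⁻¹ x ∈ Dm (Q j) s := by
  unfold Cq
  rw [mem_inf, mem_inf, mem_Dm (g := l)]

/-- `Q = V C_Q(V', V'^l)` -/
theorem dec [Finite G] {l : G} (hl : l ∈ L i) (hmv : Mv (D i) Z l) {f : G} (hf : f ∈ Q i) :
    ∃ v ∈ V i, ∃ c ∈ Cq s l Q i j, f = v * c := by
  set C1 := Dm (Q j) s with hC1
  set C2 := Dm C1 l with hC2
  set q := Z.relIndex (V i) with hq
  have hqj : (Q j).relIndex B = q := by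
    rw [← idx_eq (h.dat j), ← idx_ij h i j]
  have hqi : (Q i).relIndex B = q := by rw [← idx_eq (h.dat i)]
  have hBs : Dm B s = B := Dm_eq_of fun x hx => h.cjsB i hx
  have hQl : Dm (Q i) l = Q i := Dm_eq_of fun x hx => (h.dat i).cjQ hl hx
  have hne : ∀ H K : Subgroup G, H.relIndex K ≠ 0 := fun H K => Nat.card_pos.ne'
  have u1 : C1.relIndex (Q i) ≤ q := by
    have h1 : C1.relIndex B = q := by
      conv_lhs => rw [← hBs]
      rw [hC1, Dm_relIndex]; exact hqj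
    rw [← h1]
    exact relIndex_le_of_le_right (h.dat i).QB (hne _ _)
  have u2 : C2.relIndex (Q i) ≤ q := by
    have h1 : C2.relIndex (Q i) = C1.relIndex (Q i) := by
      conv_lhs => rw [← hQl]
      rw [hC2, Dm_relIndex]
    rw [h1]; exact u1
  have u3 : (C1 ⊓ C2).relIndex (Q i) ≤ q * q :=
    (relIndex_inf_le).trans (Nat.mul_le_mul u1 u2)
  have hcap : (C1 ⊓ C2) ⊓ V i ≤ Z ⊓ Dm Z l := by
    rintro x ⟨⟨hx1, hx2⟩, hxV⟩
    refine ⟨V_cap h hp hxV ((mem_Q' h j (Q'_le_B h j hx1)).1 hx1), ?_⟩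
    show x ∈ Dm Z l
    rw [mem_Dm]
    have hx3 : cj l⁻¹ x ∈ C1 := mem_Dm.1 hx2
    exact V_cap h hp ((h.dat i).cjV ((L i).inv_mem hl) hxV)
      ((mem_Q' h j (Q'_le_B h j hx3)).1 hx3)
  have l1 : q * q ≤ (C1 ⊓ C2).relIndex (V i) := by
    rw [← inf_relIndex_right]
    have h1 : q * q ≤ (Z ⊓ Dm Z l).relIndex (V i) := by
      rw [← relIndex_mul_relIndex (Z ⊓ Dm Z l) Z (V i) inf_le_left (h.dat i).ZV]
      apply Nat.mul_le_mul_right
      rw [inf_relIndex_left, ← hqi]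
      exact idx_ZZ (h.dat i) hl hmv
    exact h1.trans (relIndex_le_of_le_left hcap (hne _ _))
  obtain ⟨v, hv, c, hc, he⟩ := exists_mul_of_relIndex (Q := C1 ⊓ C2) (B := Q i) (U := V i)
    (h.dat i).VQ (u3.trans l1) hf
  refine ⟨v, hv, c, ⟨?_, hc⟩, he⟩
  have : c = v⁻¹ * f := by rw [he]; simp
  rw [this]
  exact (Q i).mul_mem ((Q i).inv_mem ((h.dat i).VQ hv)) hf

omit hp in
theorem Cq_V' {l c u : G} (hc : c ∈ Cq s l Q i j) (hu : u ∈ Dm (V j) s) : c * u = u * c := by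
  have h1 := (mem_Cq.1 hc).2.1
  exact (mem_Q' h j (Q'_le_B h j h1)).1 h1 u hu

omit hp in
theorem Cq_V'l {l c u : G} (hc : c ∈ Cq s l Q i j) (hu : u ∈ Dm (V j) s) :
    c * cj l u = cj l u * c := by
  have h1 := (mem_Cq.1 hc).2.2
  have h2 := (mem_Q' h j (Q'_le_B h j h1)).1 h1 u hu
  have h3 := (cj_comm (g := l)).2 h2
  rwa [cj_cj_inv] at h3

/-- `L` normalises `C_Q(V', V'^l)` -/
theorem L_norm_Cq [Finite G] {l : G} (hl : l ∈ L i) (hmv : Mv (D i) Z l) :
    L i ≤ normalizer (Cq s l Q i j : Set G) := by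
  have hcen : ∀ u : G, (∀ c ∈ Cq s l Q i j, c * u = u * c) →
      u ∈ normalizer (Cq s l Q i j : Set G) := by
    intro u hu
    apply mem_norm_of
    intro c hc
    rw [← hu c hc, mul_assoc, mul_inv_cancel, mul_one]; exact hc
  have hQ : Q i ≤ normalizer (Cq s l Q i j : Set G) := by
    intro q hq
    apply mem_norm_of
    intro c hc
    obtain ⟨h1, h2, h3⟩ := mem_Cq.1 hc
    refine mem_Cq.2 ⟨(Q i).mul_mem ((Q i).mul_mem hq h1) ((Q i).inv_mem hq), ?_, ?_⟩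
    · exact B_norm_Q' h j ((h.dat i).QB hq) h2
    · have e : cj l⁻¹ (q * c * q⁻¹) = cj (cj l⁻¹ q) (cj l⁻¹ c) := by simp [cj, mul_assoc]
      rw [e]
      exact B_norm_Q' h j ((h.dat i).QB ((h.dat i).cjQ ((L i).inv_mem hl) hq)) h3
  apply (h.dat i).gen l hl hmv
  · intro b hb
    obtain ⟨u, hu, q, hq, rfl⟩ := B_eq h hp hb
    exact mul_mem (hcen u fun c hc => Cq_V' h hc hu) (hQ hq)
  · intro b hb
    obtain ⟨u, hu, q, hq, rfl⟩ := B_eq h hp hb
    have e : l * (u * q) * l⁻¹ = cj l u * cj l q := by simp [cj, mul_assoc]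
    rw [e]
    exact mul_mem (hcen _ fun c hc => Cq_V'l h hc hu) (hQ ((h.dat i).cjQ hl hq))

/-- `O²(L)` centralises `C_Q(V', V'^l)` -/
theorem O2_cent [Finite G] (hB2 : IsPGroup 2 B) {l : G} (hl : l ∈ L i) (hmv : Mv (D i) Z l)
    {y c : G} (hy : y ∈ O2 (L i)) (hc : c ∈ Cq s l Q i j) : y * c = c * y := by
  set C := Cq s l Q i j with hC
  set X : Subgroup G := L i ⊓ centralizer (C : Set G) with hX
  have hXm : ∀ x, x ∈ X ↔ x ∈ L i ∧ ∀ c ∈ C, c * x = x * c := by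
    intro x
    rw [hX, mem_inf, mem_centralizer_iff]; rfl
  have hLN := L_norm_Cq h hp hl hmv
  -- `X` is normal in `L`
  have hXn : ∀ g ∈ L i, ∀ x ∈ X, g * x * g⁻¹ ∈ X := by
    intro g hg x hx
    obtain ⟨hx1, hx2⟩ := (hXm x).1 hx
    refine (hXm _).2 ⟨mul_mem (mul_mem hg hx1) (inv_mem hg), fun c hc => ?_⟩
    have h1 := hx2 _ (norm_cj (inv_mem (hLN hg)) hc)
    have h2 := (cj_comm (g := g)).2 h1
    rwa [cj_cj_inv] at h2
  -- `L = X Q`
  have hLX : ∀ g ∈ L i, ∃ x ∈ X, ∃ q ∈ Q i, g = x * q := by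
    let K : Subgroup G :=
      { carrier := {g | ∃ x ∈ X, ∃ q ∈ Q i, g = x * q}
        one_mem' := ⟨1, one_mem _, 1, one_mem _, by simp⟩
        mul_mem' := by
          rintro _ _ ⟨x, hx, q, hq, rfl⟩ ⟨x', hx', q', hq', rfl⟩
          have hqL : q ∈ L i := (h.dat i).BL ((h.dat i).QB hq)
          exact ⟨x * (q * x' * q⁻¹), mul_mem hx (hXn q hqL x' hx'), q * q', mul_mem hq hq',
            by simp [mul_assoc]⟩
        inv_mem' := by
          rintro _ ⟨x, hx, q, hq, rfl⟩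
          have hqL : q ∈ L i := (h.dat i).BL ((h.dat i).QB hq)
          refine ⟨q⁻¹ * x⁻¹ * q⁻¹⁻¹, hXn _ (inv_mem hqL) _ (inv_mem hx), q⁻¹, inv_mem hq, ?_⟩
          simp [mul_assoc] }
    have hLK : L i ≤ K := by
      apply (h.dat i).gen l hl hmv
      · intro b hb
        obtain ⟨u, hu, q, hq, rfl⟩ := B_eq h hp hb
        exact ⟨u, (hXm u).2 ⟨(h.dat i).BL (V'_le_B h j hu), fun c hc => Cq_V' h hc hu⟩, q, hq,
          rfl⟩
      · intro b hb
        obtain ⟨u, hu, q, hq, rfl⟩ := B_eq h hp hb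
        refine ⟨cj l u, (hXm _).2 ⟨?_, fun c hc => Cq_V'l h hc hu⟩, cj l q,
          (h.dat i).cjQ hl hq, by simp [cj, mul_assoc]⟩
        exact mul_mem (mul_mem hl ((h.dat i).BL (V'_le_B h j hu))) (inv_mem hl)
    exact fun g hg => hLK hg
  have hle : O2 (L i) ≤ X := by
    rw [O2, closure_le]
    rintro y ⟨hyL, hodd⟩
    obtain ⟨x, hx, q, hq, rfl⟩ := hLX y hyL
    have hqL : q ∈ L i := (h.dat i).BL ((h.dat i).QB hq)
    have key : ∀ k : ℕ, ∃ x' ∈ X, (x * q) ^ k = x' * q ^ k := by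
      intro k
      induction k with
      | zero => exact ⟨1, one_mem _, by simp⟩
      | succ k ih =>
        obtain ⟨x', hx', he⟩ := ih
        refine ⟨x' * (q ^ k * x * (q ^ k)⁻¹), mul_mem hx' (hXn _ (pow_mem hqL k) x hx), ?_⟩
        rw [pow_succ, he, pow_succ]
        simp [mul_assoc]
    obtain ⟨m, hm⟩ := IsPGroup.iff_card.1 (hB2.to_le (h.dat i).QB)
    obtain ⟨x', hx', he⟩ := key (2 ^ m)
    have hq1 : q ^ 2 ^ m = 1 := by
      have := pow_card_eq_one' (G := Q i) (x := ⟨q, hq⟩)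
      rw [hm] at this
      simpa using congrArg Subtype.val this
    rw [hq1, mul_one] at he
    have hcop : Nat.Coprime (2 ^ m) (orderOf (x * q)) :=
      Nat.Coprime.pow_left _ (Nat.coprime_two_left.2 hodd)
    obtain ⟨k, hk⟩ := exists_pow_eq_self_of_coprime hcop
    show x * q ∈ X
    rw [← hk, he]
    exact pow_mem hx' k
  exact (((hXm y).1 (hle hy)).2 c hc).symm

omit hp in
/-- `L ≤ O²(L) B` -/
theorem L_le [Finite G] : L i ≤ O2 (L i) ⊔ B := by
  obtain ⟨l, hl, hmv⟩ := (h.dat i).moves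
  exact le_sup_of_gen (O2_le _) (fun _ hg _ hx => O2_norm hg hx) (fun _ hy => pow_mem_O2 hy)
    (h.dat i).BL hl ((h.dat i).gen l hl hmv)

omit hp in
/-- some element of `O²(L)` moves `D` -/
theorem O2_moves [Finite G] : ∃ y ∈ O2 (L i), Mv (D i) Z y := by
  obtain ⟨l, hl, d, hd, hdZ⟩ := (h.dat i).moves
  have hl' := L_le h hl
  have hBn : B ≤ normalizer (O2 (L i) : Set G) := fun b hb =>
    mem_norm_of fun x hx => O2_norm ((h.dat i).BL hb) hx
  have h1 : l ∈ ((O2 (L i) : Subgroup G) : Set G) * ((B : Subgroup G) : Set G) := by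
    rw [← coe_mul_of_right_le_normalizer_left (O2 (L i)) B hBn]
    exact hl'
  obtain ⟨y, hy, b, hb, rfl⟩ := Set.mem_mul.1 h1
  refine ⟨y, hy, d, hd, ?_⟩
  rw [cj_mul, cj_eq_self.2 ((h.dat i).BcZ b hb d ((h.dat i).DZ hd))] at hdZ
  exact hdZ

end pair

end Cfsg.Agent.Omega.SQ1.Block

end

-- merged: Cfsg.Agent.Omega.SQ1.LocTwo
section

/-!
# SQ1: 2-groups normalised by a block (field `loc` of the killing lemma)
-/

set_option autoImplicit false

namespace Cfsg.Agent.Omega.SQ1.Block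

open Cfsg.Agent.MinSimple.PushUp Cfsg.Agent.Omega.PushUp Cfsg.Agent.Omega.SQ1.Match
open Cfsg.Agent.Omega.SQ1.BlockO Subgroup
open scoped Pointwise

variable {G : Type*} [Group G] {ι : Type*}
variable {A T B Z P : Subgroup G} {s : G} {L Q V D : ι → Subgroup G}

/-- elements normalising `B` normalise `Z = Ω₁(Z(B))` -/
theorem normB_Z (i : ι) (h : MIn A T B Z P s L Q V D)
    (hZ : ∀ x ∈ B, x * x = 1 → (∀ b ∈ B, x * b = b * x) → x ∈ Z)
    {x z : G} (hx : x ∈ normalizer (B : Set G)) (hz : z ∈ Z) : cj x z ∈ Z := by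
  have hzV := (h.dat i).ZV hz
  have hzB := (h.dat i).VB hzV
  apply hZ _ (norm_cj hx hzB)
  · rw [← cj_prod, (h.dat i).Vsq z hzV]
    simp [cj]
  · intro b hb
    have h1 := (h.dat i).BcZ _ (norm_cj (inv_mem hx) hb) z hz
    have h2 := (cj_comm (g := x)).2 h1
    rw [cj_cj_inv] at h2
    exact h2.symm

/-- hypotheses on a 2-group `R` -/
structure Two (B P : Subgroup G) (L : Subgroup G) (R : Subgroup G) : Prop where
  two : IsPGroup 2 R
  RP : R ≤ normalizer (P : Set G)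
  X : ∀ y ∈ O2 L, ∀ r ∈ R, cj y r ∈ R
  B : ∀ b ∈ B, ∀ r ∈ R, cj b r ∈ R

section two

variable (h : MIn A T B Z P s L Q V D)
  (hZ : ∀ x ∈ B, x * x = 1 → (∀ b ∈ B, x * b = b * x) → x ∈ Z)
  (hB2 : IsPGroup 2 B)
  (hJC : ∀ R : Subgroup G, IsPGroup 2 R → B ≤ R → R ≤ normalizer (P : Set G) →
    R ≤ normalizer (B : Set G))
  {i : ι} {R : Subgroup G} (hR : Two B P (L i) R)

include h hR

theorem R_L [Finite G] {y r : G} (hy : y ∈ L i) (hr : r ∈ R) : cj y r ∈ R := by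
  have h1 : L i ≤ normalizer (R : Set G) := by
    refine (L_le h).trans (sup_le ?_ ?_)
    · exact fun x hx => mem_norm_of fun r hr => hR.X x hx r hr
    · exact fun x hx => mem_norm_of fun r hr => hR.B x hx r hr
  exact norm_cj (h1 hy) hr

include hB2 hJC

theorem R_NB [Finite G] : R ≤ normalizer (B : Set G) := by
  have h1 : B ≤ normalizer (R : Set G) := fun x hx => mem_norm_of fun r hr => hR.B x hx r hr
  have h2 : IsPGroup 2 (R ⊔ B : Subgroup G) := IsPGroup.to_sup_of_normal_left' hR.two hB2 h1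
  have h3 : B ≤ normalizer (P : Set G) := fun b hb =>
    mem_norm_of fun x hx => h.LP i b ((h.dat i).BL hb) x hx
  exact le_sup_left.trans (hJC _ h2 le_sup_right (sup_le hR.RP h3))

include hZ

theorem R_cap [Finite G] {r : G} (hr : r ∈ R) (hrB : r ∈ B) : r ∈ Q i := by
  by_contra hrQ
  obtain ⟨l, hl, hmv⟩ := (h.dat i).moves
  obtain ⟨d, hd, hdZ⟩ := (h.dat i).ti l hl hmv r hrB hrQ
  apply hdZ
  apply normB_Z i h hZ _ ((h.dat i).DZ hd)
  have h1 := R_L h hR ((L i).inv_mem hl) hr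
  have h2 : cj l⁻¹ r = l⁻¹ * r * l := by simp [cj]
  rw [h2] at h1
  exact R_NB h hB2 hJC hR h1

omit hZ hB2 hJC in
/-- the case that `R` contains an element of `V` which is not centralised by `L` -/
theorem D_le [Finite G] {m : G} (hmR : m ∈ R) (hmV : m ∈ V i)
    (hm : ∃ y ∈ L i, y * m ≠ m * y) : D i ≤ R := by
  have hd := h.dat i
  obtain ⟨l, hl, hmv⟩ := hd.moves
  have hli := (L i).inv_mem hl
  -- an element outside `Z`
  obtain ⟨m, hmR, hmV, hmZ⟩ : ∃ m ∈ R, m ∈ V i ∧ m ∉ Z := by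
    by_contra hcon
    push Not at hcon
    obtain ⟨y, hy, hne⟩ := hm
    exact hne (cent_inter hd hl hmv (hcon m hmR hmV)
      (hcon _ (R_L h hR hli hmR) (hd.cjV hli hmV)) hy)
  have hcR : ∀ v ∈ R, ∀ b ∈ B, v * b * v⁻¹ * b⁻¹ ∈ R := by
    intro v hv b hb
    have e : v * b * v⁻¹ * b⁻¹ = v * cj b v⁻¹ := by simp [cj, mul_assoc]
    rw [e]
    exact mul_mem hv (hR.B b hb _ (inv_mem hv))
  have hVl : Dm (V i) l = V i := Dm_eq_of fun x hx => hd.cjV hl hx
  have h0 : (Dm Z l).relIndex Z ≤ (Q i).relIndex B := by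
    rw [← idx_eq hd]
    have h2 : (Dm Z l).relIndex (V i) = Z.relIndex (V i) := by
      conv_lhs => rw [← hVl]
      exact Dm_relIndex l Z (V i)
    rw [← h2]
    exact relIndex_le_of_le_right hd.ZV Nat.card_pos.ne'
  have h1 : (Q i).relIndex B ≤ (Dm Z l).relIndex (R ⊓ Z) := by
    apply relIndex_le_of_map (fun b => m * b * m⁻¹ * b⁻¹)
    · intro b hb
      exact ⟨hcR m hmR b hb, hd.DZ (hd.comm m hmV b hb)⟩
    · intro b hb c hc hbc
      have hcB : b⁻¹ * c ∈ B := B.mul_mem (B.inv_mem hb) hc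
      apply star hd hmV hmZ hcB
      have hcb := hd.comm _ hmV b hb
      have hcc := hd.comm _ hmV c hc
      have hcbc := hd.comm _ hmV _ hcB
      have e : m * (b⁻¹ * c) * m⁻¹ * (b⁻¹ * c)⁻¹ =
          (m * b * m⁻¹ * b⁻¹)⁻¹ * (m * c * m⁻¹ * c⁻¹) := by
        have r1 := hd.BcZ b hb _ (hd.DZ hcb)
        have r2 : b⁻¹ * (m * b * m⁻¹ * b⁻¹)⁻¹ * b = (m * b * m⁻¹ * b⁻¹)⁻¹ := by
          have : Commute b (m * b * m⁻¹ * b⁻¹)⁻¹ := Commute.inv_right r1
          rw [mul_assoc, ← this.eq, ← mul_assoc, inv_mul_cancel, one_mul]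
        have r3 := hd.BcZ b⁻¹ (B.inv_mem hb) _ (hd.DZ hcc)
        calc m * (b⁻¹ * c) * m⁻¹ * (b⁻¹ * c)⁻¹
            = (b⁻¹ * (m * b * m⁻¹ * b⁻¹)⁻¹ * b) * (b⁻¹ * (m * c * m⁻¹ * c⁻¹)) * b := by
              simp [mul_assoc]
          _ = (m * b * m⁻¹ * b⁻¹)⁻¹ * ((m * c * m⁻¹ * c⁻¹) * b⁻¹) * b := by rw [r2, r3]
          _ = _ := by simp [mul_assoc]
      intro y hy
      apply cent_inter hd hl hmv (hd.DZ hcbc) _ hy
      rw [e]
      exact mem_Dm.1 hbc
  -- `Z ≤ (R ∩ Z) C(L)`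
  have h2 : ∀ z ∈ Z, ∃ r ∈ R, ∃ f ∈ Z, z = r * f ∧ ∀ y ∈ L i, y * f = f * y := by
    intro z hz
    obtain ⟨r, hr, f, hf, he⟩ := exists_mul_of_relIndex (Q := Dm Z l) (B := Z) (U := R ⊓ Z)
      inf_le_right (h0.trans h1) hz
    have hfZ : f ∈ Z := by
      have : f = r⁻¹ * z := by rw [he]; simp
      rw [this]; exact Z.mul_mem (Z.inv_mem hr.2) hz
    exact ⟨r, hr.1, f, hfZ, he, fun y hy => cent_inter hd hl hmv hfZ (mem_Dm.1 hf) hy⟩
  refine hd.Dgen.trans ?_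
  rw [closure_le]
  rintro x ⟨v, hv, b, hb, rfl⟩
  obtain ⟨z, hz, z', hz', rfl⟩ := VZZ hd hl hmv hv
  obtain ⟨r, hr, f, hf, rfl, hfc⟩ := h2 z hz
  obtain ⟨r', hr', f', hf', rfl, hfc'⟩ := h2 z' hz'
  have hρ : r * cj l r' ∈ R := mul_mem hr (R_L h hR hl hr')
  have hrL : ∀ g ∈ Z, g ∈ L i := fun g hg => hd.BL (hd.VB (hd.ZV hg))
  have e1 : cj l (r' * f') = cj l r' * f' := by
    rw [cj_prod, cj_eq_self.2 (hfc' l hl)]
  have hr'V : cj l r' ∈ V i := by
    have : r' = (r' * f') * f'⁻¹ := by simp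
    rw [this]
    exact hd.cjV hl ((V i).mul_mem (hd.ZV hz') ((V i).inv_mem (hd.ZV hf')))
  have hρL : cj l r' ∈ L i := hd.BL (hd.VB hr'V)
  have e2 : r * f * cj l (r' * f') = (r * cj l r') * (f * f') := by
    rw [e1]
    have := hfc _ hρL
    calc r * f * (cj l r' * f') = r * (f * cj l r') * f' := by simp [mul_assoc]
      _ = r * (cj l r' * f) * f' := by rw [this]
      _ = _ := by simp [mul_assoc]
  set ρ := r * cj l r' with hρd
  set g := f * f' with hg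
  have hgb : g * b = b * g := by
    have c1 : Commute f b := (hfc b (hd.BL hb)).symm
    have c2 : Commute f' b := (hfc' b (hd.BL hb)).symm
    exact c1.mul_left c2
  have e3 : (ρ * g) * b * (ρ * g)⁻¹ * b⁻¹ = ρ * b * ρ⁻¹ * b⁻¹ := by
    calc (ρ * g) * b * (ρ * g)⁻¹ * b⁻¹ = ρ * (g * b) * g⁻¹ * ρ⁻¹ * b⁻¹ := by simp [mul_assoc]
      _ = ρ * (b * g) * g⁻¹ * ρ⁻¹ * b⁻¹ := by rw [hgb]
      _ = _ := by simp [mul_assoc]
  simp only [SetLike.mem_coe]
  rw [e2, e3]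
  exact hcR ρ hρ b hb

/-- **loc**: `R` contains `D` or is centralised by `O²(L)`. -/
theorem loc [Finite G] {j : ι} (hp : Par s V i j) :
    (∀ x ∈ O2 (L i), ∀ r ∈ R, x * r = r * x) ∨ D i ≤ R := by
  have hd := h.dat i
  by_cases hF : ∃ m ∈ R, m ∈ V i ∧ ∃ y ∈ L i, y * m ≠ m * y
  · obtain ⟨m, hmR, hmV, hm⟩ := hF
    exact Or.inr (D_le h hR hmR hmV hm)
  left
  push Not at hF
  obtain ⟨l, hl, hmv⟩ := hd.moves
  have hli := (L i).inv_mem hl
  -- odd elements centralise `R ∩ Q`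
  have step1 : ∀ y ∈ L i, Odd (orderOf y) → ∀ f ∈ R, f ∈ Q i → y * f = f * y := by
    intro y hy hodd f hfR hfQ
    obtain ⟨v, hv, c, hc, rfl⟩ := dec h hp hl hmv hfQ
    have hyc := O2_cent h hp hB2 hl hmv (mem_O2 hy hodd) hc
    have e1 : cj y (v * c) = cj y v * c := by rw [cj_prod, cj_eq_self.2 hyc]
    set e := cj y v * v⁻¹ with he
    have heV : e ∈ V i := (V i).mul_mem (hd.cjV hy hv) ((V i).inv_mem hv)
    have heR : e ∈ R := by
      have : e = cj y (v * c) * (v * c)⁻¹ := by rw [e1, he]; simp [mul_assoc]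
      rw [this]
      exact mul_mem (R_L h hR hy hfR) (inv_mem hfR)
    have hye := hF e heR heV y hy
    apply comm_of_odd hodd (c := e) (m := 1) _ hye
    · rw [pow_one, pow_two]; exact hd.Vsq e heV
    · have : y * (v * c) * y⁻¹ = cj y (v * c) := rfl
      rw [this, e1, he]; simp [mul_assoc]
  have hRQ : ∀ y ∈ L i, ∀ f ∈ R ⊓ Q i, cj y f ∈ R ⊓ Q i := fun y hy f hf =>
    ⟨R_L h hR hy hf.1, hd.cjQ hy hf.2⟩
  -- `[L, R] ≤ R ∩ Q`
  have hNB := R_NB h hB2 hJC hR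
  have step2 : ∀ r ∈ R, ∀ g ∈ L i, cj g r * r⁻¹ ∈ R ⊓ Q i := by
    intro r hr
    have hBr : ∀ r ∈ R, ∀ b ∈ B, cj b r * r⁻¹ ∈ R ⊓ Q i := by
      intro r hr b hb
      have h1 : cj b r * r⁻¹ ∈ R := mul_mem (hR.B b hb r hr) (inv_mem hr)
      have h2 : cj b r * r⁻¹ ∈ B := by
        have e : cj b r * r⁻¹ = b * cj r b⁻¹ := by simp [cj, mul_assoc]
        rw [e]
        exact mul_mem hb (norm_cj (hNB hr) (inv_mem hb))
      exact ⟨h1, R_cap h hZ hB2 hJC hR h1 h2⟩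
    let N : Subgroup G :=
      { carrier := {g | g ∈ L i ∧ cj g r * r⁻¹ ∈ R ⊓ Q i}
        one_mem' := ⟨one_mem _, by rw [cj_one, mul_inv_cancel]; exact one_mem _⟩
        mul_mem' := by
          rintro a b ⟨ha, ha'⟩ ⟨hb, hb'⟩
          refine ⟨mul_mem ha hb, ?_⟩
          have e : cj (a * b) r * r⁻¹ = cj a (cj b r * r⁻¹) * (cj a r * r⁻¹) := by
            simp [cj, mul_assoc]
          rw [e]
          exact mul_mem (hRQ a ha _ hb') ha'
        inv_mem' := by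
          rintro a ⟨ha, ha'⟩
          refine ⟨inv_mem ha, ?_⟩
          have e : cj a⁻¹ r * r⁻¹ = cj a⁻¹ (cj a r * r⁻¹)⁻¹ := by
            simp [cj, mul_assoc]
          rw [e]
          exact hRQ _ (inv_mem ha) _ (inv_mem ha') }
    have hLN : L i ≤ N := by
      apply hd.gen l hl hmv
      · exact fun b hb => ⟨hd.BL hb, hBr r hr b hb⟩
      · intro b hb
        refine ⟨mul_mem (mul_mem hl (hd.BL hb)) hli, ?_⟩
        have h1 := hRQ l hl _ (hBr (cj l⁻¹ r) (R_L h hR hli hr) b hb)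
        have e : cj l (cj b (cj l⁻¹ r) * (cj l⁻¹ r)⁻¹) = cj (l * b * l⁻¹) r * r⁻¹ := by
          simp [cj, mul_assoc]
        rwa [e] at h1
    exact fun g hg => (hLN hg).2
  have hle : ∀ r ∈ R, O2 (L i) ≤ centralizer {r} := by
    intro r hr
    rw [O2, closure_le]
    rintro y ⟨hy, hodd⟩
    simp only [SetLike.mem_coe]
    rw [mem_centralizer_iff]
    intro r' hr'
    rw [Set.mem_singleton_iff] at hr'
    rw [hr']
    have h1 := step2 r hr y hy
    set e := cj y r * r⁻¹ with he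
    obtain ⟨m, hm⟩ := hR.two ⟨e, h1.1⟩
    have hm' : e ^ 2 ^ m = 1 := by simpa using congrArg Subtype.val hm
    refine (comm_of_odd hodd (c := e) ?_ (step1 y hy hodd e h1.1 h1.2) hm').symm
    rw [he]; simp [cj]
  intro x hx r hr
  exact (mem_centralizer_iff.1 (hle r hr hx) r rfl).symm

end two

end Cfsg.Agent.Omega.SQ1.Block

end
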